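import Cfsg.Agent.H509.TwoFrame
import Cfsg.Agent.QTNorm.SporBase
import Cfsg.Agent.Lib.SylowNormalInf
import Cfsg.Agent.Lib.NormalAbelian

/-!
# Outer rows of S4094, S3842, S4095 at `p = 2`: tools (helper212)

`G = L⟨x⟩`, `x ∉ L`, the squares of the automorphisms of `L` are inner, the Sylow 2-subgroups of `L` are their own normalizers:
* `sq_mem` : `g * g ∈ L`;
* `normalizer_le` : the Sylow 2-subgroups of `G` are their own normalizers;
* `exists_mem_sylow` : `x` is in a Sylow 2-subgroup of `G`;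
* `exists_invol` : `x` commutes with an involution of `L`;
* `sup_eq_top` : a subgroup containing `L` and a conjugate of `x` is `G`.
-/

set_option autoImplicit false

namespace Cfsg.Agent.H212.OutRow

open Subgroup Cfsg
open Cfsg.Agent.H472.ComRed (cm)
open Cfsg.Agent.H509.TwoFrame
open Cfsg.Agent.QTNorm (SelfN)
open Cfsg.Agent.Lib.SylowNormalInf

universe u

variable {G : Type u} [Group G] {L : Subgroup G}

/-- the squares of the automorphisms are inner -/
def SqInn (M : Type*) [Group M] : Prop :=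
  ∀ φ : MulAut M, φ * φ ∈ (MulAut.conj : M →* MulAut M).range

theorem SqInn.of_index {M : Type*} [Group M] (h : (MulAut.conj : M →* MulAut M).range.index = 2) : SqInn M := by
  intro φ
  rw [← pow_two]
  exact sq_mem_of_index_two h φ

/-- an element inducing an inner automorphism of `L` is in `L` -/
theorem mem_of_inner [L.Normal] (hc : centralizer (L : Set G) = ⊥) {g : G}
    (h : (MulAut.conjNormal g : MulAut L) ∈ (MulAut.conj : L →* MulAut L).range) : g ∈ L := by
  obtain ⟨l, hl⟩ := h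
  have h1 : (l : G)⁻¹ * g ∈ centralizer (L : Set G) := by
    rw [mem_centralizer_iff]
    intro m hm
    have h2 := congrArg (fun φ : MulAut L => ((φ ⟨m, hm⟩ : L) : G)) hl
    have h3 : (l : G) * m * (l : G)⁻¹ = g * m * g⁻¹ := by
      simpa [MulAut.conjNormal_apply] using h2
    calc m * ((l : G)⁻¹ * g) = (l : G)⁻¹ * ((l : G) * m * (l : G)⁻¹) * g := by group
      _ = (l : G)⁻¹ * (g * m * g⁻¹) * g := by rw [h3]
      _ = (l : G)⁻¹ * g * m := by group
  rw [hc, mem_bot, inv_mul_eq_one] at h1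
  rw [← h1]
  exact l.2

theorem sq_mem [L.Normal] (hc : centralizer (L : Set G) = ⊥) (hs : SqInn L) (g : G) : g * g ∈ L := by
  apply mem_of_inner hc
  rw [map_mul]
  exact hs _

theorem mul_mem_of_not_mem [L.Normal] (hsq : ∀ g : G, g * g ∈ L) {x : G} (hgen : L ⊔ zpowers x = ⊤) {g h : G} (hg : g ∉ L)
    (hh : h ∉ L) : g * h ∈ L := by
  have key : ∀ g : G, g ∉ L → g * x⁻¹ ∈ L := by
    intro g hg
    have h1 : g ∈ L ⊔ zpowers x := by rw [hgen]; exact mem_top _
    obtain ⟨l, hl, k, ⟨n, rfl⟩, hlk⟩ := mem_sup_of_normal_left.1 h1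
    have hx2 : ∀ m : ℤ, x ^ (2 * m) ∈ L := fun m => by
      rw [zpow_mul, zpow_two]
      exact zpow_mem (hsq x) m
    dsimp only at hlk
    rcases Int.even_or_odd' n with ⟨m, rfl | rfl⟩
    · exfalso
      apply hg
      rw [← hlk]
      exact mul_mem hl (hx2 m)
    · rw [← hlk, zpow_add, zpow_one]
      have e : l * (x ^ (2 * m) * x) * x⁻¹ = l * x ^ (2 * m) := by group
      rw [e]
      exact mul_mem hl (hx2 m)
  have h1 := key g hg
  have h2 := key h hh
  have e : g * h = (g * x⁻¹) * (x * x) * (x⁻¹ * (h * x⁻¹) * x⁻¹⁻¹) := by group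
  rw [e]
  exact mul_mem (mul_mem h1 (hsq x)) (Normal.conj_mem inferInstance _ h2 _)

theorem sup_eq_top {x : G} (hL : L.Normal) (hgen : L ⊔ zpowers x = ⊤) {Y : Subgroup G} (hLY : L ≤ Y) {g : G}
    (hY : g * x * g⁻¹ ∈ Y) : Y = ⊤ := by
  have h1 : (L ⊔ zpowers (g * x * g⁻¹)) = ⊤ := by
    rw [eq_top_iff]
    intro y _
    have h1 : g⁻¹ * y * g ∈ L ⊔ zpowers x := by rw [hgen]; exact mem_top _
    obtain ⟨l, hl, k, ⟨n, rfl⟩, hlk⟩ := mem_sup_of_normal_left.1 h1
    dsimp only at hlk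
    have h2 : y = (g * l * g⁻¹) * (g * x * g⁻¹) ^ n := by
      rw [conj_zpow]
      calc y = g * (g⁻¹ * y * g) * g⁻¹ := by group
        _ = g * (l * x ^ n) * g⁻¹ := by rw [← hlk]
        _ = _ := by group
    rw [h2]
    exact mul_mem (mem_sup_left (hL.conj_mem l hl g)) (mem_sup_right ⟨n, rfl⟩)
  rw [eq_top_iff, ← h1]
  exact sup_le hLY (zpowers_le.2 hY)

variable [Finite G]

/-- `T ∩ L` as a Sylow subgroup of `L` -/
noncomputable def inf [L.Normal] (T : Sylow 2 G) : Sylow 2 L :=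
  (isPGroup_subgroupOf T L).toSylow (not_dvd_relIndex T L)

theorem mem_inf [L.Normal] {T : Sylow 2 G} {l : L} : l ∈ inf (L := L) T ↔ (l : G) ∈ T := Iff.rfl

/-- **The Sylow 2-subgroups of `G` are their own normalizers.** -/
theorem normalizer_le [L.Normal] (hS : SelfN L) (hsq : ∀ g : G, g * g ∈ L) {x : G} (hgen : L ⊔ zpowers x = ⊤)
    (T : Sylow 2 G) : normalizer ((T : Subgroup G) : Set G) ≤ T := by
  have key : ∀ g ∈ normalizer ((T : Subgroup G) : Set G), g ∈ L → g ∈ T := by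
    intro g hg hgL
    have h1 : (⟨g, hgL⟩ : L) ∈ normalizer ((inf (L := L) T : Subgroup L) : Set L) := by
      rw [mem_normalizer_iff]
      intro l
      exact mem_normalizer_iff.1 hg (l : G)
    exact hS _ h1
  intro g hg
  by_cases hgL : g ∈ L
  · exact key g hg hgL
  · by_cases hT : (T : Subgroup G) ≤ L
    · exfalso
      have h1 : L.index ∣ (T : Subgroup G).index := index_dvd_of_le hT
      have h2 : 2 ∣ L.index := by
        have h3 : orderOf ((QuotientGroup.mk' L) g) = 2 := by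
          refine orderOf_eq_prime ?_ ?_
          · rw [pow_two, ← map_mul]
            exact (QuotientGroup.eq_one_iff _).2 (hsq g)
          · intro h3
            exact hgL ((QuotientGroup.eq_one_iff g).1 h3)
        rw [← h3, index_eq_card]
        exact orderOf_dvd_natCard _
      exact T.not_dvd_index (h2.trans h1)
    · obtain ⟨s, hs, hsL⟩ := SetLike.not_le_iff_exists.1 hT
      have h1 : g * s ∈ L := mul_mem_of_not_mem hsq hgen hgL hsL
      have h2 := key (g * s) (mul_mem hg (le_normalizer hs)) h1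
      exact ((T : Subgroup G).mul_mem_cancel_right hs).1 h2

/-- **`x` is in a Sylow 2-subgroup.** -/
theorem exists_mem_sylow {x : G} (C : Ctx 2 L x) (hS : SelfN L) (hs : SqInn L) (h2 : 2 ∣ orderOf x) :
    ∃ T : Sylow 2 G, x ∈ T := by
  have hL := C.normal
  obtain ⟨n, k, hk, hn⟩ := exists_pow h2
  obtain ⟨T₀⟩ : Nonempty (Sylow 2 G) := inferInstance
  obtain ⟨g, hg⟩ := C.exists_conj hk hn T₀
  have h1 := normalizer_le hS (sq_mem C.cent hs) C.gen T₀ hg
  refine ⟨g⁻¹ • T₀, ?_⟩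
  show x ∈ ((g⁻¹ • T₀ : Sylow 2 G) : Subgroup G)
  rw [Sylow.coe_subgroup_smul]
  refine ⟨g * x * g⁻¹, h1, ?_⟩
  show g⁻¹ * (g * x * g⁻¹) * g⁻¹⁻¹ = x
  group

/-- **An element of a Sylow 2-subgroup commutes with an involution of `L`.** -/
theorem exists_invol [L.Normal] (h2 : 2 ∣ Nat.card L) {T : Sylow 2 G} {x : G} (hx : x ∈ T) :
    ∃ t ∈ L, t * t = 1 ∧ t ≠ 1 ∧ x * t = t * x := by
  have hnil : Group.IsNilpotent (T : Subgroup G) := T.isPGroup'.isNilpotent
  have h1 : L.subgroupOf (T : Subgroup G) ≠ ⊥ := by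
    intro h
    have h3 : inf (L := L) T = (⊥ : Subgroup L) := by
      rw [eq_bot_iff]
      intro l hl
      have h4 : (⟨(l : G), hl⟩ : (T : Subgroup G)) ∈ L.subgroupOf (T : Subgroup G) := l.2
      rw [h, mem_bot] at h4
      exact Subtype.ext (congrArg (fun t : (T : Subgroup G) => (t : G)) h4)
    have h4 := Sylow.card_eq_multiplicity (inf (L := L) T)
    rw [show Nat.card (inf (L := L) T) = Nat.card ((inf (L := L) T : Subgroup L)) from rfl, h3, card_bot] at h4
    have h5 := (Nat.Prime.factorization_pos_of_dvd Nat.prime_two Nat.card_pos.ne' h2)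
    have h6 := Nat.one_lt_two_pow h5.ne'
    omega
  have h3 := Cfsg.Agent.Lib.NormalAbelian.normal_inf_center_ne_bot (L.subgroupOf (T : Subgroup G)) h1
  obtain ⟨A, hA⟩ : ∃ A, A = L.subgroupOf (T : Subgroup G) ⊓ center (T : Subgroup G) := ⟨_, rfl⟩
  rw [← hA] at h3
  have hn : Nontrivial A := (nontrivial_iff_ne_bot A).2 h3
  obtain ⟨n, hn0, hn1⟩ := (T.isPGroup'.to_subgroup A).nontrivial_iff_card.1 hn
  obtain ⟨a, ha⟩ := exists_prime_orderOf_dvd_card' (G := A) 2 (by rw [hn1]; exact dvd_pow_self 2 hn0.ne')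
  have haA : (a : (T : Subgroup G)) ∈ L.subgroupOf (T : Subgroup G) ⊓ center (T : Subgroup G) := hA ▸ a.2
  refine ⟨((a : (T : Subgroup G)) : G), haA.1, ?_, ?_, ?_⟩
  · have h4 := pow_orderOf_eq_one a
    rw [ha, pow_two] at h4
    exact congrArg (fun b : A => ((b : (T : Subgroup G)) : G)) h4
  · intro h4
    have h5 : a = 1 := Subtype.ext (Subtype.ext h4)
    rw [h5, orderOf_one] at ha
    omega
  · exact congrArg Subtype.val (mem_center_iff.1 haA.2 ⟨x, hx⟩)

/-- `x` centralizes `C_L(t)` modulo a normal 2-subgroup, if `x` commutes with `t ∈ L`. -/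
theorem exists_core {x : G} (C : Ctx 2 L x) {t : L} (ht1 : t ≠ 1) (hxt : x * t = t * x) :
    ∃ A : Subgroup (centralizer ({t} : Set L)), A.Normal ∧ IsPGroup 2 A ∧
      ∀ c : centralizer ({t} : Set L), ∃ a ∈ A, x * ((c : L) : G) * x⁻¹ = ((a : L) : G) * ((c : L) : G) := by
  have hL := C.normal
  set D : Subgroup G := centralizer ({(t : G)} : Set G) with hD
  have hmem : ∀ {g : G}, g ∈ D ↔ g * t = t * g := mem_centralizer_singleton_iff
  have hmemL : ∀ {l : L}, l ∈ centralizer ({t} : Set L) ↔ (l : G) ∈ D := by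
    intro l
    rw [mem_centralizer_singleton_iff, hmem, Subtype.ext_iff]
    rfl
  have hDt : D ≠ ⊤ := by
    intro h
    apply ht1
    have h1 : (t : G) ∈ centralizer (L : Set G) := by
      rw [mem_centralizer_iff]
      intro l _
      exact hmem.1 (h ▸ mem_top l)
    rw [C.cent, mem_bot] at h1
    exact Subtype.ext h1
  refine ⟨((core 2 D).subgroupOf L).subgroupOf (centralizer ({t} : Set L)), ⟨?_⟩, ?_, ?_⟩
  · intro a ha c
    exact core_conj ha (hmemL.1 c.2)
  · exact ((core_isPGroup 2 D).comap_of_injective L.subtype L.subtype_injective).comap_of_injective _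
      (subtype_injective _)
  · intro c
    have hxD : x ∈ D := hmem.2 hxt
    have hcD : ((c : L) : G) ∈ D := hmemL.1 c.2
    have h1 := C.ind D hxD hDt (x * ((c : L) : G) * x⁻¹)⁻¹ (inv_mem (mul_mem (mul_mem hxD hcD) (inv_mem hxD)))
    have e : cm x (x * ((c : L) : G) * x⁻¹)⁻¹ = ((c : L) : G) * (x * ((c : L) : G) * x⁻¹)⁻¹ := by
      simp only [cm]; group
    rw [e] at h1
    have h2 := inv_mem h1
    have e2 : (((c : L) : G) * (x * ((c : L) : G) * x⁻¹)⁻¹)⁻¹ = x * ((c : L) : G) * x⁻¹ * ((c : L) : G)⁻¹ := by group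
    rw [e2] at h2
    have h3 : x * ((c : L) : G) * x⁻¹ * ((c : L) : G)⁻¹ ∈ L := mul_mem (hL.conj_mem _ (c : L).2 x) (inv_mem (c : L).2)
    exact ⟨⟨⟨_, h3⟩, hmemL.2 (core_le 2 D h2)⟩, h2, by show _ = x * ((c : L) : G) * x⁻¹ * ((c : L) : G)⁻¹ * ((c : L) : G); group⟩

end Cfsg.Agent.H212.OutRow
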