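import Cfsg.Agent.H212.OutRow.Base
import Cfsg.Agent.QTUnique.HS
import Cfsg.Agent.QTNorm.SporHS

/-!
# Outer row `HS` of S4094, S3842, S4095 at `p = 2` (helper212)

`G = HS⟨x⟩`, `T₀` a Sylow 2-subgroup of `G` containing the image `T` in `L` of the Sylow subgroup `Syl.S` of
`H0 = 2.HS.2`. The elements of `T₀` induce on `L` the automorphisms given by `Syl.S`. So `T₀` centralizes `z` and
normalizes the four-group `V`; but `C(z)` and `N(V)` generate `G`.
-/

set_option autoImplicit false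
set_option maxRecDepth 100000

namespace Cfsg.Agent.H212.OutRow

open Subgroup Cfsg
open Cfsg.Agent.H509.TwoFrame
open Cfsg.Agent.HN Cfsg.Agent.HN.Pres Cfsg.Agent.HN.HS100 Cfsg.Agent.HN.H0Basic Cfsg.Agent.HN.P1408
open Cfsg.Agent.KFacts.HS
open Cfsg.Agent.QTUnique.HS (T VL V S_le VL_ne isPGroup_VL)

universe u

variable {G : Type u} [Group G] {L : Subgroup G}

section

variable (D : KFacts.HS.Mod L)

include D in
/-- an element of `H0` normalizing the Sylow subgroup of `K` is in the Sylow subgroup of `H0` -/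
theorem mem_S_of {h : H0} (hh : ∀ k ∈ K, k ∈ Syl.S → h * k * h⁻¹ ∈ Syl.S) : h ∈ Syl.S := by
  have hfin : Finite L := D.finite
  have key : ∀ g : H0, g ∈ K → (∀ k ∈ K, k ∈ Syl.S → g * k * g⁻¹ ∈ Syl.S) → g ∈ Syl.S := by
    intro g hg hn
    have h1 : D.π ⟨g, hg⟩ ∈ normalizer ((QTNorm.HSRow.syT D : Subgroup L) : Set L) := by
      apply mem_normalizer_fintype
      intro y hy
      obtain ⟨k, rfl⟩ := D.surj y
      have h2 := (QTNorm.HSRow.mem_syT D).1 hy
      have h3 : D.π ⟨g, hg⟩ * D.π k * (D.π ⟨g, hg⟩)⁻¹ = D.π (⟨g, hg⟩ * k * ⟨g, hg⟩⁻¹) := by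
        rw [map_mul, map_mul, map_inv]
      show D.π ⟨g, hg⟩ * D.π k * (D.π ⟨g, hg⟩)⁻¹ ∈ QTNorm.HSRow.syT D
      rw [h3, QTNorm.HSRow.mem_syT]
      exact hn k k.2 h2
    exact (QTNorm.HSRow.mem_syT D).1 (QTNorm.HSRow.norm_syT D h1)
  by_cases hK : h ∈ K
  · exact key h hK hh
  · have h1 : h * Syl.s 8 ∈ K := by
      rw [mul_mem_iff_of_index_two K_index]
      exact iff_of_false hK FusK0.s8_notMem
    have h2 := key _ h1 fun k hk hkS => by
      have h3 := hh (Syl.s 8 * k * (Syl.s 8)⁻¹) (K_normal.conj_mem k hk _)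
        (mul_mem (mul_mem FusK0.s8_mem hkS) (inv_mem FusK0.s8_mem))
      have e : h * Syl.s 8 * k * (h * Syl.s 8)⁻¹ = h * (Syl.s 8 * k * (Syl.s 8)⁻¹) * h⁻¹ := by group
      rw [e]
      exact h3
    exact (mul_mem_cancel_right FusK0.s8_mem).1 h2

/-- an element of `G` normalizing `T` induces the automorphism given by an element of `Syl.S` -/
theorem exists_S [L.Normal] {t : G} (ht : ∀ l : L, l ∈ T D → (MulAut.conjNormal t : MulAut L) l ∈ T D) :
    ∃ h ∈ Syl.S, D.au h = MulAut.conjNormal t := by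
  obtain ⟨h, hh⟩ := D.au_surj (MulAut.conjNormal t)
  refine ⟨h, mem_S_of D fun k hk hkS => ?_, hh⟩
  have h1 := ht (D.π ⟨k, hk⟩) ((QTNorm.HSRow.mem_syT D).2 hkS)
  rw [← hh, D.au_π] at h1
  exact (QTNorm.HSRow.mem_syT D).1 h1

theorem φL_au (h : H0) (l : L) : D.φL (D.au h l) = φ h * D.φL l * (φ h)⁻¹ := by
  obtain ⟨k, rfl⟩ := D.surj l
  rw [D.au_π, D.φL_π, D.φL_π, map_mul, map_mul, map_inv]

/-- the elements of `Syl.S` fix `z` -/
theorem au_z {h : H0} (hh : h ∈ Syl.S) : D.au h D.z = D.z := by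
  apply D.φL_inj
  rw [φL_au, QTUnique.HS.φL_z, ← map_mul, show hw QTUnique.HS.zw = Syl.a from Syl.hw_a, Syl.a_comm hh, map_mul,
    mul_inv_cancel_right]

/-- the elements of `Syl.S` normalize `V` -/
theorem au_V {h : H0} (hh : h ∈ Syl.S) {l : L} (hl : l ∈ VL D) : D.au h l ∈ VL D := by
  show D.φL (D.au h l) ∈ V
  rw [φL_au]
  exact (mem_normalizer_iff.1 (S_le hh) _).1 hl

end

variable [Finite G]

/-- **Outer row `HS`.** -/
theorem outrow_HS (h : Cfsg.Spor.IsoHS L) {x : G} (C : Ctx 2 L x) (_hx : x ∉ L) (h2 : 2 ∣ orderOf x) : False := by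
  have hL := C.normal
  obtain ⟨D⟩ := exists_mod h
  have hsq := sq_mem C.cent (SqInn.of_index (KFacts.HS.Mod.index_inn D))
  -- a Sylow subgroup of `G` over `T`
  obtain ⟨T₀, hT₀⟩ : ∃ T₀ : Sylow 2 G, ((T D : Sylow 2 L) : Subgroup L).map L.subtype ≤ T₀ :=
    ((T D).isPGroup'.map L.subtype).exists_le_sylow
  have hinf : ∀ l : L, l ∈ T D ↔ (l : G) ∈ T₀ := by
    intro l
    have h1 : (T D : Subgroup L) ≤ inf (L := L) T₀ := fun l hl => hT₀ ⟨l, hl, rfl⟩
    have h3 : (inf (L := L) T₀ : Subgroup L) = T D := (T D).is_maximal' (inf (L := L) T₀).isPGroup' h1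
    have h4 : l ∈ (T D : Subgroup L) ↔ l ∈ (inf (L := L) T₀ : Subgroup L) := by rw [h3]
    exact h4
  have hact : ∀ t ∈ T₀, ∃ h ∈ Syl.S, D.au h = MulAut.conjNormal t := by
    intro t ht
    refine exists_S D fun l hl => ?_
    rw [hinf] at hl ⊢
    rw [MulAut.conjNormal_apply]
    exact mul_mem (mul_mem ht hl) (inv_mem ht)
  -- the two subgroups
  have hN : normalizer ((T₀ : Subgroup G) : Set G) ≤ T₀ := normalizer_le (QTNorm.HSRow.selfN D) hsq C.gen T₀
  have hN1 : normalizer ((T₀ : Subgroup G) : Set G) ≤ centralizer ({(D.z : G)} : Set G) := by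
    intro t ht
    obtain ⟨h, hh, he⟩ := hact t (hN ht)
    have h1 := au_z D hh
    rw [he] at h1
    have h3 := congrArg Subtype.val h1
    rw [MulAut.conjNormal_apply] at h3
    rw [mem_centralizer_singleton_iff]
    exact mul_inv_eq_iff_eq_mul.1 h3
  have hN2 : normalizer ((T₀ : Subgroup G) : Set G) ≤ normalizer (((VL D).map L.subtype : Subgroup G) : Set G) := by
    intro t ht
    apply mem_normalizer_fintype
    rintro _ ⟨l, hl, rfl⟩
    obtain ⟨h, hh, he⟩ := hact t (hN ht)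
    have h1 := au_V D hh hl
    rw [he] at h1
    exact ⟨_, h1, MulAut.conjNormal_apply _ _⟩
  have ht1 : centralizer ({(D.z : G)} : Set G) ≠ ⊤ := by
    intro h
    apply D.z1
    have h1 : (D.z : G) ∈ centralizer (L : Set G) := by
      rw [mem_centralizer_iff]
      intro l _
      exact mem_centralizer_singleton_iff.1 (h ▸ mem_top l)
    rw [C.cent, mem_bot] at h1
    exact Subtype.ext h1
  have hp2 : Fact (Nat.Prime 2) := ⟨Nat.prime_two⟩
  have ht2 : normalizer (((VL D).map L.subtype : Subgroup G) : Set G) ≠ ⊤ := by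
    refine C.normalizer_ne_top ((isPGroup_VL D).map L.subtype) ?_
    rw [Ne, map_eq_bot_iff_of_injective _ L.subtype_injective]
    exact VL_ne D
  obtain ⟨n, k, hk, hn⟩ := exists_pow h2
  refine C.false_of_pair hk hn hN1 hN2 ht1 ht2 ?_
  obtain ⟨g, hg⟩ := C.exists_conj hk hn T₀
  refine sup_eq_top hL C.gen ?_ (mem_sup_left (hN1 hg))
  -- `L` is generated
  have h3 : (centralizer ({(D.z : G)} : Set G) ⊔ normalizer (((VL D).map L.subtype : Subgroup G) : Set G)).subgroupOf L =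
      ⊤ := by
    apply QTUnique.HS.eq_top D
    · intro l hl
      refine mem_sup_left ?_
      rw [mem_centralizer_singleton_iff] at hl ⊢
      exact congrArg Subtype.val hl
    · intro l hl
      refine mem_sup_right ?_
      apply mem_normalizer_fintype
      rintro _ ⟨m, hm, rfl⟩
      exact ⟨l * m * l⁻¹, (mem_normalizer_iff.1 hl m).1 hm, rfl⟩
  exact subgroupOf_eq_top.1 h3

end Cfsg.Agent.H212.OutRow
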