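import Cfsg.Agent.H212.OutRow.Base
import Cfsg.Agent.H799.MTSyl
import Cfsg.Agent.TypeM.FactsMcL
import Cfsg.Agent.TypeM.OuterInst

/-!
# Outer row `McL` of S4094, S3842, S4095 at `p = 2` (helper212)

`x` is in a Sylow 2-subgroup, so commutes with an involution `t` of `L`; it centralizes `C_L(t)/⟨t⟩ = A₈`; the
automorphisms of `L` with this property are inner.
-/

set_option autoImplicit false

namespace Cfsg.Agent.H212.OutRow

open Subgroup Cfsg
open Cfsg.Agent.H509.TwoFrame
open Cfsg.Agent.TypeM.Two Cfsg.Agent.TypeM.OuterMcL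
open Cfsg.Agent.H799.MTSyl (proj proj_surj proj_ker)

universe u

variable {G : Type u} [Group G] [Finite G] {L : Subgroup G}

/-- a normal 2-subgroup of `C(t)` is in the kernel of the projection onto `A_n` -/
theorem proj_eq_one {M : Type*} [Group M] {n : ℕ} (h5 : 5 ≤ n) (T : MT n M) {A : Subgroup (centralizer ({T.t} : Set M))}
    (hA : A.Normal) (hA2 : IsPGroup 2 A) {a : centralizer ({T.t} : Set M)} (ha : a ∈ A) : proj T a = 1 := by
  have hs : IsSimpleGroup (alternatingGroup (Fin n)) :=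
    alternatingGroup.isSimpleGroup (by rw [Nat.card_eq_fintype_card, Fintype.card_fin]; exact h5)
  have h1 : (A.map (proj T)).Normal := hA.map _ (proj_surj T)
  rcases hs.eq_bot_or_eq_top_of_normal _ h1 with h | h
  · have h2 : proj T a ∈ A.map (proj T) := ⟨a, ha, rfl⟩
    rw [h, mem_bot] at h2
    exact h2
  · exfalso
    have h2 : IsPGroup 2 (A.map (proj T)) := hA2.map _
    rw [h] at h2
    have h3 : IsPGroup 2 (alternatingGroup (Fin n)) := h2.of_equiv topEquiv
    obtain ⟨k, hk⟩ := h3.exists_card_eq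
    have hnt : Nontrivial (Fin n) := Fin.nontrivial_iff_two_le.2 (by omega)
    have h4 : 3 ∣ Nat.card (alternatingGroup (Fin n)) := by
      rw [nat_card_alternatingGroup, Nat.card_eq_fintype_card, Fintype.card_fin]
      have h6 : 6 ∣ n.factorial := (show 6 = Nat.factorial 3 from rfl) ▸ Nat.factorial_dvd_factorial (by omega)
      omega
    rw [hk] at h4
    have := Nat.Prime.dvd_of_dvd_pow Nat.prime_three h4
    omega

/-- **Outer row `MT n`, `n = 8, 11`.** -/
theorem false_of_mt {x : G} {n : ℕ} (hn : n = 8 ∨ n = 11) (hO : TypeM.FactsAut.OrderEq n L) (C : Ctx 2 L x) (hx : x ∉ L)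
    (h2 : 2 ∣ orderOf x) (M₀ : MT n L) : False := by
  have hL := C.normal
  have h6 : 6 ≤ n := by omega
  have h16 : n < 16 := by omega
  have hs : SqInn L := by
    intro φ
    by_cases hφ : φ ∈ (MulAut.conj : L →* MulAut L).range
    · exact mul_mem hφ hφ
    · exact TypeM.OuterInst.mul_mem_range M₀ hn (TypeM.FactsAut.gen M₀ hO) hφ hφ
  have h2L : 2 ∣ Nat.card L := by
    rw [← M₀.orderOf_t]
    exact orderOf_dvd_natCard _
  obtain ⟨T, hxT⟩ := exists_mem_sylow C (H799.MTSyl.normalizer_le h6 h16 M₀) hs h2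
  obtain ⟨t, htL, htt, ht1, hxt⟩ := exists_invol h2L hxT
  obtain ⟨M, hM⟩ := M₀.exists_rebase (s := ⟨t, htL⟩) (Subtype.ext htt) (fun h => ht1 (congrArg Subtype.val h))
  have hMt : (M.t : G) = t := congrArg Subtype.val hM
  obtain ⟨A, hAn, hA2, hA⟩ := exists_core C (t := M.t) M.t_ne (by rw [hMt]; exact hxt)
  apply hx
  apply mem_of_inner C.cent
  refine TypeM.OuterInst.evenInner M hn (TypeM.FactsAut.gen M hO) (MulAut.conjNormal x) 1 ?_ ?_ (by simp)
  · apply Subtype.ext
    rw [MulAut.conjNormal_apply, hMt, hxt, mul_inv_cancel_right]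
  · intro g k hk
    obtain ⟨a, ha, hag⟩ := hA g
    have h1 : k = a * g := by
      apply Subtype.ext
      apply Subtype.ext
      rw [hk, MulAut.conjNormal_apply, hag]
      rfl
    have h3 := congrArg Subtype.val (proj_eq_one (by omega) M hAn hA2 ha)
    change M.K.π a = 1 at h3
    rw [h1, map_mul, h3, inv_one, mul_one]

/-- **Outer row `McL`.** -/
theorem outrow_McL (h : Cfsg.Spor.IsoMcL L) {x : G} (C : Ctx 2 L x) (hx : x ∉ L) (h2 : 2 ∣ orderOf x) : False := by
  obtain ⟨-, -, hcard, ⟨M⟩⟩ := TypeM.FactsMcL.facts h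
  exact false_of_mt (Or.inl rfl) (Or.inl ⟨rfl, hcard⟩) C hx h2 M

end Cfsg.Agent.H212.OutRow
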